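import Mathlib.FieldTheory.Galois.Basic
import Mathlib.RingTheory.AlgebraicIndependent.Defs
import Mathlib.RingTheory.AlgebraicIndependent.Basic
import Mathlib.RingTheory.AlgebraicIndependent.Transcendental
import Mathlib.RingTheory.AlgebraicIndependent.AlgebraicClosure
import Mathlib.RingTheory.MvPolynomial.Basic
import Mathlib.RingTheory.Localization.FractionRing
import Mathlib.FieldTheory.IntermediateField.Adjoin.Basic
import Mathlib.LinearAlgebra.LinearIndependent.Lemmas

/-!
The no-name lemma: descent of semilinear actions along a faithful action on an intermediate field.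
-/

set_option autoImplicit false

universe u v w

namespace Groth.Agent.Lib.NoName.Basic

open MvPolynomial IntermediateField

section Speiser

variable {k : Type u} [Field k] {L : Type v} [Field L] [Algebra k L]

/-- A finite group acting faithfully on a stable intermediate field `K`: the invariant vectors in
a stable `K`-subspace of `L` span it. -/
theorem span_invariants (G : Subgroup (L ≃ₐ[k] L)) [Finite G] (K : IntermediateField k L)
    (hK : ∀ σ ∈ G, ∀ a ∈ K, σ a ∈ K)
    (hfaith : ∀ σ ∈ G, (∀ a ∈ K, σ a = a) → σ = 1)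
    (W : Submodule K L) (hW : ∀ σ ∈ G, ∀ v ∈ W, σ v ∈ W) :
    W ≤ Submodule.span K {v : L | v ∈ W ∧ ∀ σ ∈ G, σ v = v} := by
  classical
  have := Fintype.ofFinite G
  -- the characters
  let ch : G → (K →* K) := fun σ =>
    { toFun := fun a => ⟨σ.1 a.1, hK σ.1 σ.2 a.1 a.2⟩
      map_one' := Subtype.ext (map_one σ.1)
      map_mul' := fun a b => Subtype.ext (map_mul σ.1 a.1 b.1) }
  have hch : Function.Injective ch := by
    intro σ τ h
    have : τ⁻¹ * σ = 1 := by
      apply Subtype.ext
      refine hfaith _ (τ⁻¹ * σ).2 fun a ha => ?_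
      have h2 : σ.1 a = τ.1 a := congrArg Subtype.val (DFunLike.congr_fun h ⟨a, ha⟩)
      show τ.1.symm (σ.1 a) = a
      rw [h2, AlgEquiv.symm_apply_apply]
    exact (inv_mul_eq_one.mp this).symm
  have hli : LinearIndependent K (fun σ : G => (ch σ : K → K)) :=
    (linearIndependent_monoidHom K K).comp ch hch
  have htop : Submodule.span K (Set.range fun c : K => fun σ : G => ch σ c) = ⊤ := by
    by_contra hne
    obtain ⟨f, hf0, hf⟩ := Submodule.exists_le_ker_of_lt_top _ (lt_top_iff_ne_top.mpr hne)
    apply hf0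
    have hz : ∀ c : K, ∑ σ : G, f (Pi.single σ 1) * ch σ c = 0 := by
      intro c
      have h1 : f (fun σ : G => ch σ c) = 0 :=
        LinearMap.mem_ker.mp (hf (Submodule.subset_span ⟨c, rfl⟩))
      rw [pi_eq_sum_univ' (fun σ : G => ch σ c), map_sum] at h1
      simpa [map_smul, smul_eq_mul, mul_comm] using h1
    have := Fintype.linearIndependent_iff.mp hli (fun σ => f (Pi.single σ 1)) (by
      funext c
      simpa [Finset.sum_apply] using hz c)
    refine LinearMap.pi_ext' fun σ => LinearMap.ext_ring ?_
    simpa using this σ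
  intro v hv
  have hmem : (Pi.single (1 : G) (1 : K)) ∈
      Submodule.span K (Set.range fun c : K => fun σ : G => ch σ c) := htop ▸ trivial
  obtain ⟨a, ha⟩ := Finsupp.mem_span_range_iff_exists_finsupp.mp hmem
  have key : v = a.sum (fun c r => r • ∑ σ : G, ((ch σ c : K) • σ.1 v)) := by
    have h1 : ∀ σ : G, (a.sum fun c r => r * ch σ c) = (Pi.single (1 : G) (1 : K) : G → K) σ := by
      intro σ
      rw [← ha]
      simp [Finsupp.sum, Finset.sum_apply]
    calc v = ∑ σ : G, ((Pi.single (1 : G) (1 : K) : G → K) σ) • σ.1 v := by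
          rw [Finset.sum_eq_single (1 : G)]
          · simp
          · intro σ _ hσ
            simp [Pi.single_eq_of_ne hσ]
          · intro h; exact absurd (Finset.mem_univ _) h
      _ = ∑ σ : G, (a.sum fun c r => r * ch σ c) • σ.1 v := by simp [h1]
      _ = _ := by
          simp only [Finsupp.sum, Finset.sum_smul, mul_smul, Finset.smul_sum]
          rw [Finset.sum_comm]
  rw [key]
  refine Submodule.sum_mem _ fun c _ => Submodule.smul_mem _ _ (Submodule.subset_span ⟨?_, ?_⟩)
  · exact Submodule.sum_mem _ fun σ _ => Submodule.smul_mem _ _ (hW σ.1 σ.2 v hv)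
  · intro τ hτ
    rw [map_sum]
    refine Fintype.sum_equiv (Equiv.mulLeft (⟨τ, hτ⟩ : G)) _ _ fun σ => ?_
    show τ ((ch σ c : K).1 • σ.1 v) = (ch (⟨τ, hτ⟩ * σ) c : K).1 • (τ * σ.1) v
    simp only [smul_eq_mul, map_mul, AlgEquiv.mul_apply]
    rfl

/-- For a finite group acting linearly on algebraically independent elements over a stable field
`K` on which it acts faithfully, one can choose invariant elements with the same `K`-span. -/
theorem exists_invariant_independent (G : Subgroup (L ≃ₐ[k] L)) [Finite G]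
    (K : IntermediateField k L) (hK : ∀ σ ∈ G, ∀ a ∈ K, σ a ∈ K)
    (hfaith : ∀ σ ∈ G, (∀ a ∈ K, σ a = a) → σ = 1)
    {m : ℕ} (y : Fin m → L) (hy : AlgebraicIndependent K y)
    (hyG : ∀ σ ∈ G, ∀ i, σ (y i) ∈ Submodule.span K (Set.range y)) :
    ∃ t : Fin m → L, (∀ i, ∀ σ ∈ G, σ (t i) = t i) ∧ AlgebraicIndependent K t ∧
      (∀ i, y i ∈ Submodule.span K (Set.range t)) := by
  classical
  let W : Submodule K L := Submodule.span K (Set.range y)
  have hW : ∀ σ ∈ G, ∀ v ∈ W, σ v ∈ W := by
    intro σ hσ v hv
    induction hv using Submodule.span_induction with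
    | mem x hx => obtain ⟨i, rfl⟩ := hx; exact hyG σ hσ i
    | zero => simp
    | add x z _ _ hx hz => rw [map_add]; exact W.add_mem hx hz
    | smul a x _ hx =>
      have : σ (a • x) = (⟨σ a.1, hK σ hσ a.1 a.2⟩ : K) • σ x := by
        show σ (a.1 • x) = σ a.1 • σ x
        simp [smul_eq_mul]
      rw [this]
      exact W.smul_mem _ hx
  let S : Set L := {v : L | v ∈ W ∧ ∀ σ ∈ G, σ v = v}
  have hS : Submodule.span K S = W :=
    le_antisymm (Submodule.span_le.mpr fun v hv => hv.1) (span_invariants G K hK hfaith W hW)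
  obtain ⟨b, hbS, hbspan, hbli⟩ := exists_linearIndependent K S
  rw [hS] at hbspan
  have hliy : LinearIndependent K y := hy.linearIndependent
  let B : Module.Basis b K W := (Module.Basis.span hbli).map
    (LinearEquiv.ofEq _ _ (by rw [Subtype.range_coe]; exact hbspan))
  let Y : Module.Basis (Fin m) K W := Module.Basis.span hliy
  let e : Fin m ≃ b := Y.indexEquiv B
  refine ⟨fun i => (e i).1, fun i σ hσ => (hbS (e i).2).2 σ hσ, ?_, ?_⟩
  swap
  · intro i
    have : y i ∈ Submodule.span K b := hbspan ▸ Submodule.subset_span ⟨i, rfl⟩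
    have hr : Set.range (fun i => (e i).1) = b := by
      ext x
      exact ⟨by rintro ⟨i, rfl⟩; exact (e i).2, fun hx => ⟨e.symm ⟨x, hx⟩, by simp⟩⟩
    rwa [hr]
  -- algebraic independence by the inverse linear substitution
  set t : Fin m → L := fun i => (e i).1 with ht
  have h1 : ∀ i, t i ∈ Submodule.span K (Set.range y) := fun i => (hbS (e i).2).1
  have h2 : ∀ i, y i ∈ Submodule.span K (Set.range t) := by
    intro i
    have : y i ∈ Submodule.span K b := hbspan ▸ Submodule.subset_span ⟨i, rfl⟩
    have hr : Set.range t = b := by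
      ext x
      exact ⟨by rintro ⟨i, rfl⟩; exact (e i).2, fun hx => ⟨e.symm ⟨x, hx⟩, by simp [ht]⟩⟩
    rwa [hr]
  have htli : LinearIndependent K t := hbli.comp e e.injective
  choose P hP using fun i => (Submodule.mem_span_range_iff_exists_fun K).mp (h1 i)
  choose Q hQ using fun i => (Submodule.mem_span_range_iff_exists_fun K).mp (h2 i)
  let sP : MvPolynomial (Fin m) K →ₐ[K] MvPolynomial (Fin m) K :=
    aeval fun i => ∑ j, P i j • MvPolynomial.X j
  let sQ : MvPolynomial (Fin m) K →ₐ[K] MvPolynomial (Fin m) K :=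
    aeval fun i => ∑ j, Q i j • MvPolynomial.X j
  have eP : (aeval y).comp sP = aeval t := by
    refine MvPolynomial.algHom_ext fun i => ?_
    simp [sP, hP i]
  have eQ : (aeval t).comp sQ = aeval y := by
    refine MvPolynomial.algHom_ext fun i => ?_
    simp [sQ, hQ i]
  have eQP : sQ.comp sP = AlgHom.id K _ := by
    refine MvPolynomial.algHom_ext fun i => ?_
    have h3 : ∑ l, (∑ j, P i j * Q j l) • t l = t i := by
      calc ∑ l, (∑ j, P i j * Q j l) • t l = ∑ j, P i j • ∑ l, Q j l • t l := by
            simp only [Finset.sum_smul, Finset.smul_sum, mul_smul]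
            rw [Finset.sum_comm]
        _ = ∑ j, P i j • y j := by simp only [hQ]
        _ = t i := hP i
    have h4 : ∀ l, ∑ j, P i j * Q j l = if l = i then 1 else 0 := by
      intro l
      have h5 : ∑ l, ((∑ j, P i j * Q j l) - if l = i then (1 : K) else 0) • t l = 0 := by
        simp only [sub_smul, Finset.sum_sub_distrib, h3, ite_smul, one_smul, zero_smul,
          Finset.sum_ite_eq', Finset.mem_univ, if_true, sub_self]
      exact sub_eq_zero.mp (Fintype.linearIndependent_iff.mp htli _ h5 l)
    simp only [AlgHom.comp_apply, sP, aeval_X, map_sum, map_smul, AlgHom.id_apply]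
    simp only [sQ, aeval_X, Finset.smul_sum, smul_smul]
    rw [Finset.sum_comm]
    simp only [← Finset.sum_smul, h4, ite_smul, one_smul, zero_smul, Finset.sum_ite_eq',
      Finset.mem_univ, if_true]
  have hinj : Function.Injective sP := by
    intro a b h
    simpa [← AlgHom.comp_apply, eQP] using congrArg sQ h
  have hy' : Function.Injective (aeval y : MvPolynomial (Fin m) K →ₐ[K] L) := hy
  show Function.Injective (aeval t : MvPolynomial (Fin m) K →ₐ[K] L)
  rw [← eP]
  exact hy'.comp hinj

/-- Evaluation of a polynomial with coefficients in an intermediate field `F` lies in the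
field generated over `F` by the evaluation points. -/
theorem aeval_mem_adjoin {F : IntermediateField k L} {K : IntermediateField k L} {ι : Type*}
    (t : ι → L) (P : MvPolynomial ι K) (hP : ∀ d, ((coeff d P : K) : L) ∈ F) :
    aeval t P ∈ IntermediateField.restrictScalars k (adjoin F (Set.range t)) := by
  classical
  rw [mem_restrictScalars]
  rw [aeval_def, eval₂_eq]
  refine sum_mem fun d _ => mul_mem ?_ (prod_mem fun i _ => pow_mem ?_ _)
  · exact IntermediateField.algebraMap_mem (adjoin F (Set.range t)) (⟨_, hP d⟩ : F)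
  · exact subset_adjoin F _ ⟨i, rfl⟩

/-- The no-name lemma for a finite group of field automorphisms. -/
theorem fixedField_eq_adjoin (G : Subgroup (L ≃ₐ[k] L)) [Finite G]
    (K : IntermediateField k L) (hK : ∀ σ ∈ G, ∀ a ∈ K, σ a ∈ K)
    (hfaith : ∀ σ ∈ G, (∀ a ∈ K, σ a = a) → σ = 1)
    {m : ℕ} (y : Fin m → L) (hy : AlgebraicIndependent K y)
    (hyG : ∀ σ ∈ G, ∀ i, σ (y i) ∈ Submodule.span K (Set.range y))
    (hgen : adjoin K (Set.range y) = ⊤) :
    ∃ t : Fin m → L,
      AlgebraicIndependent (↥(K ⊓ fixedField G)) t ∧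
        IntermediateField.restrictScalars k (adjoin (↥(K ⊓ fixedField G)) (Set.range t)) =
          fixedField G := by
  classical
  have := Fintype.ofFinite G
  obtain ⟨t, htG, htind, hty⟩ := exists_invariant_independent G K hK hfaith y hy hyG
  refine ⟨t, ?_, ?_⟩
  · letI : Algebra ↥(K ⊓ fixedField G) K :=
      (IntermediateField.inclusion (inf_le_left : K ⊓ fixedField G ≤ K)).toRingHom.toAlgebra
    haveI : IsScalarTower ↥(K ⊓ fixedField G) K L := IsScalarTower.of_algebraMap_eq fun _ => rfl
    exact htind.restrictScalars (algebraMap ↥(K ⊓ fixedField G) K).injective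
  -- `L = K(t)`
  have hgen' : adjoin K (Set.range t) = ⊤ := by
    refine top_le_iff.mp (hgen ▸ adjoin_le_iff.mpr ?_)
    rintro _ ⟨i, rfl⟩
    exact (Submodule.span_le.mpr (subset_adjoin K (Set.range t)) :
      Submodule.span K (Set.range t) ≤ (adjoin K (Set.range t)).toSubalgebra.toSubmodule) (hty i)
  apply le_antisymm
  · intro z hz
    rw [mem_restrictScalars] at hz
    induction hz using IntermediateField.adjoin_induction with
    | mem x hx =>
      obtain ⟨i, rfl⟩ := hx
      exact fun σ => htG i σ.1 σ.2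
    | algebraMap x => exact x.2.2
    | add x z _ _ hx hz => exact add_mem hx hz
    | inv x _ hx => exact inv_mem hx
    | mul x z _ _ hx hz => exact mul_mem hx hz
  intro f hf
  have hf' : ∀ σ ∈ G, σ f = f := (mem_fixedField_iff G f).mp hf
  obtain ⟨r, s, hrs⟩ := (mem_adjoin_range_iff K t f).mp (hgen' ▸ IntermediateField.mem_top)
  by_cases hs : aeval t s = 0
  · rw [hrs, hs, div_zero]
    exact zero_mem _
  -- the action on coefficients
  let φ : G → (K →+* K) := fun σ =>
    { toFun := fun a => ⟨σ.1 a.1, hK σ.1 σ.2 a.1 a.2⟩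
      map_one' := Subtype.ext (map_one σ.1)
      map_mul' := fun a b => Subtype.ext (map_mul σ.1 a.1 b.1)
      map_zero' := Subtype.ext (map_zero σ.1)
      map_add' := fun a b => Subtype.ext (map_add σ.1 a.1 b.1) }
  have hφ : ∀ (σ : G) (P : MvPolynomial (Fin m) K),
      σ.1 (aeval t P) = aeval t (MvPolynomial.map (φ σ) P) := by
    intro σ P
    induction P using MvPolynomial.induction_on with
    | C a => simp only [map_C, aeval_C]; rfl
    | add p q hp hq => simp only [map_add, hp, hq]
    | mul_X p i hp => simp only [map_mul, map_X, aeval_X, hp, htG i σ.1 σ.2]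
  have hmem : ∀ P : MvPolynomial (Fin m) K, (∀ σ ∈ G, σ (aeval t P) = aeval t P) →
      aeval t P ∈ IntermediateField.restrictScalars k
        (adjoin (↥(K ⊓ fixedField G)) (Set.range t)) := by
    intro P hPinv
    refine aeval_mem_adjoin t P fun d => ⟨(coeff d P).2, ?_⟩
    refine (mem_fixedField_iff G _).mpr fun σ hσ => ?_
    have h1 : MvPolynomial.map (φ ⟨σ, hσ⟩) P = P := htind (by rw [← hφ]; exact hPinv σ hσ)
    have h2 := congrArg (fun p : MvPolynomial (Fin m) K => ((coeff d p : K) : L)) h1
    rw [coeff_map] at h2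
    exact h2
  let s' : MvPolynomial (Fin m) K := ∏ σ : G, MvPolynomial.map (φ σ) s
  let r' : MvPolynomial (Fin m) K :=
    r * ∏ σ ∈ Finset.univ.erase (1 : G), MvPolynomial.map (φ σ) s
  have hs'val : aeval t s' = ∏ σ : G, σ.1 (aeval t s) := by
    simp only [s', map_prod, hφ]
  have hs'ne : aeval t s' ≠ 0 := by
    rw [hs'val, Finset.prod_ne_zero_iff]
    intro σ _ h
    exact hs (by simpa using h)
  have hs'inv : ∀ σ ∈ G, σ (aeval t s') = aeval t s' := by
    intro σ hσ
    rw [hs'val, map_prod]
    exact Fintype.prod_equiv (Equiv.mulLeft (⟨σ, hσ⟩ : G)) _ _ fun τ => rfl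
  have hr'val : f * aeval t s' = aeval t r' := by
    simp only [r', map_mul, map_prod, ← hφ]
    rw [hs'val, ← Finset.mul_prod_erase Finset.univ _ (Finset.mem_univ (1 : G))]
    simp only [OneMemClass.coe_one, AlgEquiv.one_apply]
    rw [← mul_assoc, hrs, div_mul_cancel₀ _ hs]
  have hr'inv : ∀ σ ∈ G, σ (aeval t r') = aeval t r' := by
    intro σ hσ
    rw [← hr'val, map_mul, hf' σ hσ, hs'inv σ hσ]
  have : f = aeval t r' / aeval t s' := by rw [← hr'val, mul_div_assoc, div_self hs'ne, mul_one]
  rw [this]
  exact div_mem (hmem r' hr'inv) (hmem s' hs'inv)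

end Speiser

end Groth.Agent.Lib.NoName.Basic
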