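import Groth.Agent.Lib.NoName.Basic
import Groth.Prelude.Def_W4c2brnrinvarInvFld
import Mathlib.Algebra.MvPolynomial.Rename
import Mathlib.RingTheory.MvPolynomial.Symmetric.FundamentalTheorem

/-!
Linear actions on rational function fields, their sums, and rational function fields over
fields of invariants.
-/

set_option autoImplicit false

universe u v w

namespace Groth.Agent.Lib.NoName.Linear

open MvPolynomial IntermediateField

variable {k : Type u} [Field k]

theorem algebraicIndependent_X (σ : Type*) :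
    AlgebraicIndependent k (InvFld.X : σ → InvFld.Fld σ k) :=
  (MvPolynomial.algebraicIndependent_X σ k).map'
    (f := IsScalarTower.toAlgHom k (MvPolynomial σ k) (InvFld.Fld σ k))
    (IsFractionRing.injective (MvPolynomial σ k) (InvFld.Fld σ k))

theorem algebraMap_eq_aeval {σ : Type*} (P : MvPolynomial σ k) :
    algebraMap (MvPolynomial σ k) (InvFld.Fld σ k) P =
      aeval (InvFld.X : σ → InvFld.Fld σ k) P := by
  have : (IsScalarTower.toAlgHom k (MvPolynomial σ k) (InvFld.Fld σ k)) =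
      aeval (InvFld.X : σ → InvFld.Fld σ k) := by
    refine MvPolynomial.algHom_ext fun i => ?_
    simp
  exact DFunLike.congr_fun this P

theorem adjoin_X_eq_top (σ : Type*) :
    adjoin k (Set.range (InvFld.X : σ → InvFld.Fld σ k)) = ⊤ := by
  refine top_le_iff.mp fun f _ => ?_
  obtain ⟨a, b, _, rfl⟩ := IsFractionRing.div_surjective (MvPolynomial σ k) f
  exact (mem_adjoin_range_iff k _ _).mpr ⟨a, b, by rw [algebraMap_eq_aeval, algebraMap_eq_aeval]⟩

theorem adjoin_adjoin_eq_top {L : Type*} [Field L] [Algebra k L] {T S U : Set L}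
    (h : adjoin k U = ⊤) (hU : U ⊆ T ∪ S) : adjoin (adjoin k T) S = ⊤ := by
  refine IntermediateField.restrictScalars_injective k ?_
  rw [restrictScalars_top, eq_top_iff, ← h, adjoin_le_iff]
  intro x hx
  rcases hU hx with hx | hx
  · rw [SetLike.mem_coe, mem_restrictScalars]
    have h1 : (algebraMap (adjoin k T) L ⟨x, subset_adjoin k T hx⟩) ∈ adjoin (adjoin k T) S :=
      IntermediateField.algebraMap_mem _ _
    rwa [IntermediateField.algebraMap_apply] at h1
  · rw [SetLike.mem_coe, mem_restrictScalars]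
    exact subset_adjoin (adjoin k T) S hx

theorem algebraicIndependent_adjoin_of_sumElim {L : Type*} [Field L] [Algebra k L]
    {ι κ : Type*} (x : ι → L) (y : κ → L) (h : AlgebraicIndependent k (Sum.elim y x)) :
    AlgebraicIndependent (adjoin k (Set.range x)) y :=
  algebraicIndependent_adjoin_iff.mpr (AlgebraicIndependent.sumElim_iff.mp h).2

/-- In a rational function field in the variables `ι ⊕ κ`, the second block is algebraically
independent over the field generated by the first one, and generates everything. -/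
theorem algebraicIndependent_inr (ι κ : Type*) :
    AlgebraicIndependent (adjoin k (Set.range fun i : ι => (InvFld.X (Sum.inl i) : InvFld.Fld (ι ⊕ κ) k)))
      (fun j : κ => (InvFld.X (Sum.inr j) : InvFld.Fld (ι ⊕ κ) k)) := by
  apply algebraicIndependent_adjoin_of_sumElim
  rw [show Sum.elim (fun j : κ => (InvFld.X (Sum.inr j) : InvFld.Fld (ι ⊕ κ) k))
    (fun i : ι => (InvFld.X (Sum.inl i) : InvFld.Fld (ι ⊕ κ) k)) = InvFld.X ∘ Equiv.sumComm κ ι by
      funext x; cases x <;> rfl]
  exact (algebraicIndependent_X (k := k) (ι ⊕ κ)).comp _ (Equiv.sumComm κ ι).injective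

theorem adjoin_inr_eq_top (ι κ : Type*) :
    adjoin (adjoin k (Set.range fun i : ι => (InvFld.X (Sum.inl i) : InvFld.Fld (ι ⊕ κ) k)))
      (Set.range fun j : κ => (InvFld.X (Sum.inr j) : InvFld.Fld (ι ⊕ κ) k)) = ⊤ :=
  adjoin_adjoin_eq_top (adjoin_X_eq_top (k := k) (ι ⊕ κ)) (by
    rintro _ ⟨i | j, rfl⟩
    · exact Or.inl ⟨i, rfl⟩
    · exact Or.inr ⟨j, rfl⟩)

theorem algebraicIndependent_inl (ι κ : Type*) :
    AlgebraicIndependent (adjoin k (Set.range fun j : κ => (InvFld.X (Sum.inr j) : InvFld.Fld (ι ⊕ κ) k)))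
      (fun i : ι => (InvFld.X (Sum.inl i) : InvFld.Fld (ι ⊕ κ) k)) := by
  apply algebraicIndependent_adjoin_of_sumElim
  rw [show Sum.elim (fun i : ι => (InvFld.X (Sum.inl i) : InvFld.Fld (ι ⊕ κ) k))
    (fun j : κ => (InvFld.X (Sum.inr j) : InvFld.Fld (ι ⊕ κ) k)) = InvFld.X by
      funext x; cases x <;> rfl]
  exact algebraicIndependent_X (k := k) (ι ⊕ κ)

theorem adjoin_inl_eq_top (ι κ : Type*) :
    adjoin (adjoin k (Set.range fun j : κ => (InvFld.X (Sum.inr j) : InvFld.Fld (ι ⊕ κ) k)))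
      (Set.range fun i : ι => (InvFld.X (Sum.inl i) : InvFld.Fld (ι ⊕ κ) k)) = ⊤ :=
  adjoin_adjoin_eq_top (adjoin_X_eq_top (k := k) (ι ⊕ κ)) (by
    rintro _ ⟨i | j, rfl⟩
    · exact Or.inr ⟨i, rfl⟩
    · exact Or.inl ⟨j, rfl⟩)

/-- An element of `L` fixing generators fixes the generated field. -/
theorem fixes_adjoin {L : Type*} [Field L] [Algebra k L] (σ : L ≃ₐ[k] L) {S : Set L}
    (h : ∀ x ∈ S, σ x = x) : ∀ a ∈ adjoin k S, σ a = a := by
  intro a ha
  induction ha using IntermediateField.adjoin_induction with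
  | mem x hx => exact h x hx
  | algebraMap x => exact σ.commutes x
  | add x z _ _ hx hz => rw [map_add, hx, hz]
  | inv x _ hx => rw [map_inv₀, hx]
  | mul x z _ _ hx hz => rw [map_mul, hx, hz]

/-- An automorphism mapping generators into the generated field maps that field into itself. -/
theorem stable_adjoin {L : Type*} [Field L] [Algebra k L] (σ : L ≃ₐ[k] L) {S : Set L}
    (h : ∀ x ∈ S, σ x ∈ Submodule.span k S) : ∀ a ∈ adjoin k S, σ a ∈ adjoin k S := by
  intro a ha
  induction ha using IntermediateField.adjoin_induction with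
  | mem x hx =>
    exact (Submodule.span_le.mpr (subset_adjoin k S) :
      Submodule.span k S ≤ (adjoin k S).toSubalgebra.toSubmodule) (h x hx)
  | algebraMap x => rw [σ.commutes]; exact IntermediateField.algebraMap_mem _ x
  | add x z _ _ hx hz => rw [map_add]; exact add_mem hx hz
  | inv x _ hx => rw [map_inv₀]; exact inv_mem hx
  | mul x z _ _ hx hz => rw [map_mul]; exact mul_mem hx hz

theorem span_mono_scalars {L : Type*} [Field L] [Algebra k L] (K : IntermediateField k L)
    {S : Set L} {x : L} (hx : x ∈ Submodule.span k S) : x ∈ Submodule.span K S :=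
  Submodule.span_le_restrictScalars k K S hx

/-- A rational function field over `F₀` is isomorphic, over `k`, to a field generated over the
image of `F₀` by algebraically independent elements. -/
theorem exists_equiv_of_generators {L : Type v} [Field L] [Algebra k L] {F₀ : Type w} [Field F₀]
    [Algebra k F₀] (j : F₀ →ₐ[k] L) {F : IntermediateField k L} (hF : j.fieldRange = F)
    {r : ℕ} (t : Fin r → L) (ht : AlgebraicIndependent F t) (E : IntermediateField k L)
    (hE : IntermediateField.restrictScalars k (adjoin F (Set.range t)) = E) :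
    Nonempty (InvFld.Fld (Fin r) F₀ ≃ₐ[k] E) := by
  subst hF
  letI : Algebra F₀ L := j.toRingHom.toAlgebra
  haveI : IsScalarTower k F₀ L := IsScalarTower.of_algebraMap_eq fun a => (j.commutes a).symm
  let jr : F₀ →+* j.fieldRange := j.toRingHom.codRestrict j.fieldRange fun a => ⟨a, rfl⟩
  have hjr : Function.Surjective jr := by
    rintro ⟨_, a, rfl⟩
    exact ⟨a, rfl⟩
  let ev : MvPolynomial (Fin r) F₀ →ₐ[k] L := (aeval t).restrictScalars k
  have hev : ∀ P, ev P = aeval t (MvPolynomial.map jr P) := by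
    intro P
    induction P using MvPolynomial.induction_on with
    | C a =>
      simp only [ev, AlgHom.restrictScalars_apply, map_C, aeval_C]
      rfl
    | add p q hp hq => simp only [map_add, hp, hq]
    | mul_X p i hp =>
      simp only [map_mul, map_X, hp]
      simp [ev]
  have hinj : Function.Injective ev := by
    intro a b h
    rw [hev, hev] at h
    exact MvPolynomial.map_injective jr jr.injective (ht h)
  let Φ : InvFld.Fld (Fin r) F₀ →ₐ[k] L := IsFractionRing.liftAlgHom hinj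
  have hΦ : ∀ P, Φ (algebraMap _ _ P) = aeval t (MvPolynomial.map jr P) := by
    intro P
    rw [← hev]
    simp [Φ]
  have hr : Φ.fieldRange = E := by
    rw [← hE]
    apply le_antisymm
    · rintro _ ⟨f, rfl⟩
      obtain ⟨a, b, _, rfl⟩ := IsFractionRing.div_surjective (MvPolynomial (Fin r) F₀) f
      show Φ _ ∈ _
      rw [map_div₀, hΦ, hΦ, mem_restrictScalars]
      exact (mem_adjoin_range_iff _ t _).mpr
        ⟨MvPolynomial.map jr a, MvPolynomial.map jr b, rfl⟩
    · intro z hz
      rw [mem_restrictScalars, mem_adjoin_range_iff] at hz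
      obtain ⟨a, b, rfl⟩ := hz
      obtain ⟨a, rfl⟩ := MvPolynomial.map_surjective jr hjr a
      obtain ⟨b, rfl⟩ := MvPolynomial.map_surjective jr hjr b
      exact ⟨algebraMap _ _ a / algebraMap _ _ b, by
        show Φ _ = _
        rw [map_div₀, hΦ, hΦ]⟩
  exact ⟨((AlgEquiv.ofInjectiveField Φ).trans
    (IntermediateField.equivOfEq hr))⟩

/-! ### Linear actions on polynomials -/

section Lift

variable {ι : Type*} [Fintype ι]

/-- A polynomial linear form representing the image of a variable. -/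
theorem exists_linearForm (σ : InvFld.Fld ι k ≃ₐ[k] InvFld.Fld ι k)
    (h : ∀ i, σ (InvFld.X i) ∈ Submodule.span k (Set.range (InvFld.X : ι → InvFld.Fld ι k))) :
    ∃ c : ι → ι → k, ∀ i, σ (InvFld.X i) = ∑ j, c i j • InvFld.X j := by
  choose c hc using fun i => (Submodule.mem_span_range_iff_exists_fun k).mp (h i)
  exact ⟨c, fun i => (hc i).symm⟩

theorem exists_polynomial_model {G : Type*} [Group G]
    (ρ : G →* (InvFld.Fld ι k ≃ₐ[k] InvFld.Fld ι k))
    (h : ∀ g i, ρ g (InvFld.X i) ∈ Submodule.span k (Set.range (InvFld.X : ι → InvFld.Fld ι k))) :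
    ∃ l : G → ι → MvPolynomial ι k,
      (∀ g i, l g i ∈ Submodule.span k (Set.range (MvPolynomial.X : ι → MvPolynomial ι k))) ∧
      (∀ g i, algebraMap (MvPolynomial ι k) (InvFld.Fld ι k) (l g i) = ρ g (InvFld.X i)) ∧
      (∀ g h i, aeval (l g) (l h i) = l (g * h) i) ∧ (∀ i, l 1 i = MvPolynomial.X i) := by
  choose c hc using fun g => exists_linearForm (ρ g) (h g)
  let l : G → ι → MvPolynomial ι k := fun g i => ∑ j, c g i j • MvPolynomial.X j
  have hl : ∀ g i, algebraMap (MvPolynomial ι k) (InvFld.Fld ι k) (l g i) = ρ g (InvFld.X i) := by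
    intro g i
    rw [hc g i, algebraMap_eq_aeval]
    simp [l]
  have hev : ∀ g (P : MvPolynomial ι k), algebraMap (MvPolynomial ι k) (InvFld.Fld ι k) (aeval (l g) P) =
      ρ g (algebraMap _ _ P) := by
    intro g P
    have : (IsScalarTower.toAlgHom k (MvPolynomial ι k) (InvFld.Fld ι k)).comp (aeval (l g)) =
        (ρ g).toAlgHom.comp (IsScalarTower.toAlgHom k (MvPolynomial ι k) (InvFld.Fld ι k)) := by
      refine MvPolynomial.algHom_ext fun i => ?_
      simp [hl]
    exact DFunLike.congr_fun this P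
  refine ⟨l, fun g i => ?_, hl, fun g h i => ?_, fun i => ?_⟩
  · exact (Submodule.mem_span_range_iff_exists_fun k).mpr ⟨c g i, rfl⟩
  · apply IsFractionRing.injective (MvPolynomial ι k) (InvFld.Fld ι k)
    rw [hev, hl, hl, map_mul, AlgEquiv.mul_apply]
  · apply IsFractionRing.injective (MvPolynomial ι k) (InvFld.Fld ι k)
    rw [hl, map_one]
    rfl

/-- Monoid homomorphism from automorphisms of the polynomial ring to those of the field. -/
noncomputable def fldHom (ι : Type*) :
    (MvPolynomial ι k ≃ₐ[k] MvPolynomial ι k) →* (InvFld.Fld ι k ≃ₐ[k] InvFld.Fld ι k) where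
  toFun f := IsFractionRing.algEquivOfAlgEquiv f
  map_one' := by
    apply AlgEquiv.ext
    intro x
    exact DFunLike.congr_fun (IsFractionRing.ringHom_ext (A := MvPolynomial ι k)
      (f1 := ((IsFractionRing.algEquivOfAlgEquiv (1 : MvPolynomial ι k ≃ₐ[k] MvPolynomial ι k) :
        InvFld.Fld ι k ≃ₐ[k] InvFld.Fld ι k) : InvFld.Fld ι k →+* InvFld.Fld ι k))
      (f2 := RingHom.id _) fun a => by simp) x
  map_mul' f g := by
    apply AlgEquiv.ext
    intro x
    exact DFunLike.congr_fun (IsFractionRing.ringHom_ext (A := MvPolynomial ι k)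
      (f1 := ((IsFractionRing.algEquivOfAlgEquiv (f * g) :
        InvFld.Fld ι k ≃ₐ[k] InvFld.Fld ι k) : InvFld.Fld ι k →+* InvFld.Fld ι k))
      (f2 := ((IsFractionRing.algEquivOfAlgEquiv f :
          InvFld.Fld ι k ≃ₐ[k] InvFld.Fld ι k) : InvFld.Fld ι k →+* InvFld.Fld ι k).comp
        ((IsFractionRing.algEquivOfAlgEquiv g :
          InvFld.Fld ι k ≃ₐ[k] InvFld.Fld ι k) : InvFld.Fld ι k →+* InvFld.Fld ι k))
      fun a => by simp) x

theorem fldHom_algebraMap {ι : Type*} (f : MvPolynomial ι k ≃ₐ[k] MvPolynomial ι k)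
    (a : MvPolynomial ι k) :
    fldHom ι f (algebraMap _ (InvFld.Fld ι k) a) = algebraMap _ _ (f a) :=
  IsFractionRing.algEquivOfAlgEquiv_algebraMap f a

theorem fldHom_injective (ι : Type*) : Function.Injective (fldHom (k := k) ι) := by
  intro f g h
  refine AlgEquiv.ext fun a => IsFractionRing.injective (MvPolynomial ι k) (InvFld.Fld ι k) ?_
  rw [← fldHom_algebraMap, ← fldHom_algebraMap, h]

end Lift

/-- Two linear actions of a group, combined on the disjoint union of the variables. -/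
theorem exists_sum_action {ι κ : Type*} [Fintype ι] [Fintype κ] {G : Type*} [Group G]
    (ρ₁ : G →* (InvFld.Fld ι k ≃ₐ[k] InvFld.Fld ι k))
    (h₁ : ∀ g i, ρ₁ g (InvFld.X i) ∈ Submodule.span k (Set.range (InvFld.X : ι → InvFld.Fld ι k)))
    (ρ₂ : G →* (InvFld.Fld κ k ≃ₐ[k] InvFld.Fld κ k))
    (h₂ : ∀ g i, ρ₂ g (InvFld.X i) ∈ Submodule.span k (Set.range (InvFld.X : κ → InvFld.Fld κ k))) :
    ∃ (ρ : G →* (InvFld.Fld (ι ⊕ κ) k ≃ₐ[k] InvFld.Fld (ι ⊕ κ) k))
      (j₁ : InvFld.Fld ι k →ₐ[k] InvFld.Fld (ι ⊕ κ) k)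
      (j₂ : InvFld.Fld κ k →ₐ[k] InvFld.Fld (ι ⊕ κ) k),
      (∀ g f, ρ g (j₁ f) = j₁ (ρ₁ g f)) ∧ (∀ g f, ρ g (j₂ f) = j₂ (ρ₂ g f)) ∧
      (∀ i, j₁ (InvFld.X i) = InvFld.X (Sum.inl i)) ∧
      (∀ i, j₂ (InvFld.X i) = InvFld.X (Sum.inr i)) := by
  obtain ⟨l₁, hs₁, hl₁, hm₁, ho₁⟩ := exists_polynomial_model ρ₁ h₁
  obtain ⟨l₂, hs₂, hl₂, hm₂, ho₂⟩ := exists_polynomial_model ρ₂ h₂
  let a : G → (MvPolynomial (ι ⊕ κ) k →ₐ[k] MvPolynomial (ι ⊕ κ) k) := fun g =>
    aeval (Sum.elim (fun i => rename Sum.inl (l₁ g i)) (fun i => rename Sum.inr (l₂ g i)))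
  have ha₁ : ∀ g P, a g (rename Sum.inl P) = rename Sum.inl (aeval (l₁ g) P) := by
    intro g P
    have : (a g).comp (rename Sum.inl) = (rename Sum.inl).comp (aeval (l₁ g)) := by
      refine MvPolynomial.algHom_ext fun i => ?_
      simp [a]
    exact DFunLike.congr_fun this P
  have ha₂ : ∀ g P, a g (rename Sum.inr P) = rename Sum.inr (aeval (l₂ g) P) := by
    intro g P
    have : (a g).comp (rename Sum.inr) = (rename Sum.inr).comp (aeval (l₂ g)) := by
      refine MvPolynomial.algHom_ext fun i => ?_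
      simp [a]
    exact DFunLike.congr_fun this P
  have haX₁ : ∀ g i, a g (MvPolynomial.X (Sum.inl i)) = rename Sum.inl (l₁ g i) := by
    intro g i; simp [a]
  have haX₂ : ∀ g i, a g (MvPolynomial.X (Sum.inr i)) = rename Sum.inr (l₂ g i) := by
    intro g i; simp [a]
  have hmul : ∀ g h, a (g * h) = (a g).comp (a h) := by
    intro g h
    refine MvPolynomial.algHom_ext ?_
    rintro (i | i)
    · rw [AlgHom.comp_apply, haX₁, haX₁, ha₁, hm₁]
    · rw [AlgHom.comp_apply, haX₂, haX₂, ha₂, hm₂]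
  have hone : a 1 = AlgHom.id k _ := by
    refine MvPolynomial.algHom_ext ?_
    rintro (i | i)
    · rw [haX₁, ho₁]; simp
    · rw [haX₂, ho₂]; simp
  let e : G →* (MvPolynomial (ι ⊕ κ) k ≃ₐ[k] MvPolynomial (ι ⊕ κ) k) :=
    { toFun := fun g => AlgEquiv.ofAlgHom (a g) (a g⁻¹)
        (by rw [← hmul, mul_inv_cancel, hone]) (by rw [← hmul, inv_mul_cancel, hone])
      map_one' := AlgEquiv.ext fun x => DFunLike.congr_fun hone x
      map_mul' := fun g h => AlgEquiv.ext fun x => DFunLike.congr_fun (hmul g h) x }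
  have he : ∀ g P, e g P = a g P := fun g P => rfl
  let i₁ : MvPolynomial ι k →ₐ[k] InvFld.Fld (ι ⊕ κ) k :=
    (IsScalarTower.toAlgHom k (MvPolynomial (ι ⊕ κ) k) _).comp (rename Sum.inl)
  have hi₁ : Function.Injective i₁ :=
    (IsFractionRing.injective (MvPolynomial (ι ⊕ κ) k) (InvFld.Fld (ι ⊕ κ) k)).comp
      (rename_injective _ Sum.inl_injective)
  let i₂ : MvPolynomial κ k →ₐ[k] InvFld.Fld (ι ⊕ κ) k :=
    (IsScalarTower.toAlgHom k (MvPolynomial (ι ⊕ κ) k) _).comp (rename Sum.inr)
  have hi₂ : Function.Injective i₂ :=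
    (IsFractionRing.injective (MvPolynomial (ι ⊕ κ) k) (InvFld.Fld (ι ⊕ κ) k)).comp
      (rename_injective _ Sum.inr_injective)
  let j₁ : InvFld.Fld ι k →ₐ[k] InvFld.Fld (ι ⊕ κ) k := IsFractionRing.liftAlgHom hi₁
  let j₂ : InvFld.Fld κ k →ₐ[k] InvFld.Fld (ι ⊕ κ) k := IsFractionRing.liftAlgHom hi₂
  have hj₁ : ∀ P : MvPolynomial ι k, j₁ (algebraMap _ _ P) =
      algebraMap (MvPolynomial (ι ⊕ κ) k) _ (rename Sum.inl P) := fun P => by
    simp [j₁, i₁]
  have hj₂ : ∀ P : MvPolynomial κ k, j₂ (algebraMap _ _ P) =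
      algebraMap (MvPolynomial (ι ⊕ κ) k) _ (rename Sum.inr P) := fun P => by
    simp [j₂, i₂]
  refine ⟨(fldHom (ι ⊕ κ)).comp e, j₁, j₂, fun g f => ?_, fun g f => ?_,
    fun i => ?_, fun i => ?_⟩
  · obtain ⟨p, q, _, rfl⟩ := IsFractionRing.div_surjective (MvPolynomial ι k) f
    have key : ∀ P : MvPolynomial ι k, ((fldHom (ι ⊕ κ)).comp e) g (j₁ (algebraMap _ _ P)) =
        j₁ (ρ₁ g (algebraMap _ _ P)) := by
      intro P
      rw [hj₁, MonoidHom.comp_apply, fldHom_algebraMap, he, ha₁]
      rw [← hj₁]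
      congr 1
      induction P using MvPolynomial.induction_on with
      | C c =>
        rw [aeval_C, ← MvPolynomial.algebraMap_eq, ← IsScalarTower.algebraMap_apply k,
          AlgEquiv.commutes]
      | add x y hx hy => simp only [map_add, hx, hy]
      | mul_X x i hx => simp only [map_mul, hx, aeval_X, hl₁]
    rw [map_div₀, map_div₀, map_div₀, map_div₀, key, key]
  · obtain ⟨p, q, _, rfl⟩ := IsFractionRing.div_surjective (MvPolynomial κ k) f
    have key : ∀ P : MvPolynomial κ k, ((fldHom (ι ⊕ κ)).comp e) g (j₂ (algebraMap _ _ P)) =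
        j₂ (ρ₂ g (algebraMap _ _ P)) := by
      intro P
      rw [hj₂, MonoidHom.comp_apply, fldHom_algebraMap, he, ha₂]
      rw [← hj₂]
      congr 1
      induction P using MvPolynomial.induction_on with
      | C c =>
        rw [aeval_C, ← MvPolynomial.algebraMap_eq, ← IsScalarTower.algebraMap_apply k,
          AlgEquiv.commutes]
      | add x y hx hy => simp only [map_add, hx, hy]
      | mul_X x i hx => simp only [map_mul, hx, aeval_X, hl₂]
    rw [map_div₀, map_div₀, map_div₀, map_div₀, key, key]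
  · rw [InvFld.X, hj₁, rename_X]
  · rw [InvFld.X, hj₂, rename_X]

end Groth.Agent.Lib.NoName.Linear
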