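import Groth.Agent.Lib.NoName.Linear

/-!
Two faithful linear actions of the same finite group have stably equivalent invariant fields.
-/

set_option autoImplicit false

universe u

namespace Groth.Agent.Lib.NoName.Stable

open IntermediateField Groth.Agent.Lib.NoName.Basic Groth.Agent.Lib.NoName.Linear

variable {k : Type u} [Field k]

theorem fixedField_map_eq {A L : Type u} [Field A] [Algebra k A] [Field L] [Algebra k L]
    (j : A →ₐ[k] L) (G : Subgroup (A ≃ₐ[k] A)) (D : Subgroup (L ≃ₐ[k] L)) (ρ : G →* (L ≃ₐ[k] L))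
    (hD : D = ρ.range) (h : ∀ g f, ρ g (j f) = j (g.1 f)) :
    (j.comp (fixedField G).val).fieldRange = j.fieldRange ⊓ fixedField D := by
  subst hD
  apply le_antisymm
  · rintro _ ⟨f, rfl⟩
    refine ⟨⟨f.1, rfl⟩, (mem_fixedField_iff _ _).mpr ?_⟩
    rintro _ ⟨g, rfl⟩
    show ρ g (j f.1) = j f.1
    rw [h, (mem_fixedField_iff G f.1).mp f.2 g.1 g.2]
  · rintro _ ⟨⟨f, rfl⟩, hf⟩
    refine ⟨⟨f, (mem_fixedField_iff G f).mpr fun σ hσ => j.injective ?_⟩, rfl⟩
    have := (mem_fixedField_iff _ _).mp hf (ρ ⟨σ, hσ⟩) ⟨_, rfl⟩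
    exact (h ⟨σ, hσ⟩ f).symm.trans this

theorem fieldRange_eq_adjoin {ι : Type*} {L : Type*} [Field L] [Algebra k L]
    (j : InvFld.Fld ι k →ₐ[k] L) :
    j.fieldRange = adjoin k (Set.range fun i => j (InvFld.X i)) := by
  rw [show (Set.range fun i => j (InvFld.X i)) = j '' Set.range InvFld.X by
    rw [← Set.range_comp]; rfl, ← adjoin_map, adjoin_X_eq_top, ← AlgHom.fieldRange_eq_map]

theorem exists_equiv (n m : ℕ)
    (G : Subgroup (InvFld.Fld (Fin n) k ≃ₐ[k] InvFld.Fld (Fin n) k)) [Finite G]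
    (H : Subgroup (InvFld.Fld (Fin m) k ≃ₐ[k] InvFld.Fld (Fin m) k)) (e : G ≃* H)
    (hG : ∀ σ ∈ G, ∀ i : Fin n, σ (InvFld.X i) ∈ Submodule.span k
      (Set.range fun j : Fin n => (InvFld.X j : InvFld.Fld (Fin n) k)))
    (hH : ∀ τ ∈ H, ∀ i : Fin m, τ (InvFld.X i) ∈ Submodule.span k
      (Set.range fun j : Fin m => (InvFld.X j : InvFld.Fld (Fin m) k))) :
    Nonempty (InvFld.Fld (Fin m) (fixedField G) ≃ₐ[k] InvFld.Fld (Fin n) (fixedField H)) := by
  classical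
  obtain ⟨ρ, j₁, j₂, h₁, h₂, hX₁, hX₂⟩ := exists_sum_action (k := k) G.subtype
    (fun g i => hG g.1 g.2 i) (H.subtype.comp e.toMonoidHom) (fun g i => hH (e g).1 (e g).2 i)
  let D : Subgroup (InvFld.Fld (Fin n ⊕ Fin m) k ≃ₐ[k] InvFld.Fld (Fin n ⊕ Fin m) k) := ρ.range
  haveI : Finite D := Finite.of_surjective ρ.rangeRestrict ρ.rangeRestrict_surjective
  have hK₁ : ∀ σ ∈ D, ∀ a ∈ j₁.fieldRange, σ a ∈ j₁.fieldRange := by
    rintro _ ⟨g, rfl⟩ _ ⟨f, rfl⟩
    exact ⟨g.1 f, (h₁ g f).symm⟩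
  have hK₂ : ∀ σ ∈ D, ∀ a ∈ j₂.fieldRange, σ a ∈ j₂.fieldRange := by
    rintro _ ⟨g, rfl⟩ _ ⟨f, rfl⟩
    exact ⟨(e g).1 f, (h₂ g f).symm⟩
  have hf₁ : ∀ σ ∈ D, (∀ a ∈ j₁.fieldRange, σ a = a) → σ = 1 := by
    rintro _ ⟨g, rfl⟩ hfix
    have : g = 1 := Subtype.ext (AlgEquiv.ext fun f => j₁.injective
      ((h₁ g f).symm.trans (hfix (j₁ f) ⟨f, rfl⟩)))
    rw [this, map_one]
  have hf₂ : ∀ σ ∈ D, (∀ a ∈ j₂.fieldRange, σ a = a) → σ = 1 := by
    rintro _ ⟨g, rfl⟩ hfix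
    have : e g = 1 := Subtype.ext (AlgEquiv.ext fun f => j₂.injective
      ((h₂ g f).symm.trans (hfix (j₂ f) ⟨f, rfl⟩)))
    rw [(map_eq_one_iff e e.injective).mp this, map_one]
  have himg : ∀ {ι : Type} (j : InvFld.Fld ι k →ₐ[k] InvFld.Fld (Fin n ⊕ Fin m) k)
      (K : IntermediateField k (InvFld.Fld (Fin n ⊕ Fin m) k)) (f : InvFld.Fld ι k),
      f ∈ Submodule.span k (Set.range fun i => (InvFld.X i : InvFld.Fld ι k)) →
      j f ∈ Submodule.span K (Set.range fun i => j (InvFld.X i)) := by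
    intro ι j K f hf
    refine span_mono_scalars K ?_
    rw [show (Set.range fun i => j (InvFld.X i)) = j '' Set.range fun i => InvFld.X i by
      rw [← Set.range_comp]; rfl]
    have := Submodule.mem_map_of_mem (f := j.toLinearMap) hf
    rwa [Submodule.map_span] at this
  have hR₁ : j₁.fieldRange = adjoin k (Set.range fun i : Fin n =>
      (InvFld.X (Sum.inl i) : InvFld.Fld (Fin n ⊕ Fin m) k)) := by
    simp only [fieldRange_eq_adjoin j₁, hX₁]
  have hR₂ : j₂.fieldRange = adjoin k (Set.range fun i : Fin m =>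
      (InvFld.X (Sum.inr i) : InvFld.Fld (Fin n ⊕ Fin m) k)) := by
    simp only [fieldRange_eq_adjoin j₂, hX₂]
  obtain ⟨t, ht, htE⟩ := fixedField_eq_adjoin D j₁.fieldRange hK₁ hf₁
    (fun i : Fin m => j₂ (InvFld.X i))
    (by rw [hR₁]
        simp only [hX₁, hX₂]
        exact algebraicIndependent_inr (k := k) (Fin n) (Fin m))
    (by rintro _ ⟨g, rfl⟩ i
        show ρ g (j₂ _) ∈ _
        rw [h₂]
        exact himg j₂ _ _ (hH (e g).1 (e g).2 i))
    (by rw [hR₁]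
        simp only [hX₁, hX₂]
        exact adjoin_inr_eq_top (k := k) (Fin n) (Fin m))
  obtain ⟨s, hs, hsE⟩ := fixedField_eq_adjoin D j₂.fieldRange hK₂ hf₂
    (fun i : Fin n => j₁ (InvFld.X i))
    (by rw [hR₂]
        simp only [hX₁, hX₂]
        exact algebraicIndependent_inl (k := k) (Fin n) (Fin m))
    (by rintro _ ⟨g, rfl⟩ i
        show ρ g (j₁ _) ∈ _
        rw [h₁]
        exact himg j₁ _ _ (hG g.1 g.2 i))
    (by rw [hR₂]
        simp only [hX₁, hX₂]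
        exact adjoin_inl_eq_top (k := k) (Fin n) (Fin m))
  obtain ⟨E₁⟩ := exists_equiv_of_generators (j₁.comp (fixedField G).val)
    (fixedField_map_eq j₁ G D ρ rfl h₁) t ht (fixedField D) htE
  have hD : D = (ρ.comp e.symm.toMonoidHom).range := by
    rw [MonoidHom.range_comp, MonoidHom.range_eq_top_of_surjective _ e.symm.surjective,
      ← MonoidHom.range_eq_map]
  obtain ⟨E₂⟩ := exists_equiv_of_generators (j₂.comp (fixedField H).val)
    (fixedField_map_eq j₂ H D (ρ.comp e.symm.toMonoidHom) hD fun g f => by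
      simpa using h₂ (e.symm g) f) s hs (fixedField D) hsE
  exact ⟨E₁.trans E₂.symm⟩

end Groth.Agent.Lib.NoName.Stable
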