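import Groth.Agent.Lib.NoName.Stable

/-!
The field of invariants of the permutation representation of the symmetric group.
-/

set_option autoImplicit false

universe u

namespace Groth.Agent.Lib.NoName.Symm

open MvPolynomial IntermediateField Groth.Agent.Lib.NoName.Linear

variable {k : Type u} [Field k]

/-- Permutation of the variables, as automorphisms of the polynomial ring. -/
noncomputable def renameHom (n : ℕ) :
    Equiv.Perm (Fin n) →* (MvPolynomial (Fin n) k ≃ₐ[k] MvPolynomial (Fin n) k) where
  toFun π := renameEquiv k π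
  map_one' := AlgEquiv.ext fun P => by
    show rename (id : Fin n → Fin n) P = P
    exact rename_id_apply P
  map_mul' π τ := AlgEquiv.ext fun P => by
    show rename (π ∘ τ) P = rename π (rename τ P)
    rw [rename_rename]

/-- Permutation of the variables, as automorphisms of the rational function field. -/
noncomputable def permHom (n : ℕ) :
    Equiv.Perm (Fin n) →* (InvFld.Fld (Fin n) k ≃ₐ[k] InvFld.Fld (Fin n) k) :=
  (fldHom (Fin n)).comp (renameHom n)

theorem permHom_algebraMap (n : ℕ) (π : Equiv.Perm (Fin n)) (P : MvPolynomial (Fin n) k) :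
    permHom n π (algebraMap _ (InvFld.Fld (Fin n) k) P) = algebraMap _ _ (rename π P) :=
  fldHom_algebraMap _ P

theorem permHom_X (n : ℕ) (π : Equiv.Perm (Fin n)) (i : Fin n) :
    permHom (k := k) n π (InvFld.X i) = InvFld.X (π i) := by
  rw [InvFld.X, permHom_algebraMap, rename_X]

theorem permHom_injective (n : ℕ) : Function.Injective (permHom (k := k) n) := by
  intro π τ h
  refine Equiv.ext fun i => ?_
  have h1 := permHom_X (k := k) n π i
  rw [h, permHom_X] at h1
  exact (algebraicIndependent_X (k := k) (Fin n)).injective h1.symm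

/-- The field of symmetric rational functions is generated by the elementary ones. -/
theorem fixedField_perm (n : ℕ) :
    fixedField (permHom (k := k) n).range = adjoin k (Set.range fun i : Fin n =>
      algebraMap (MvPolynomial (Fin n) k) (InvFld.Fld (Fin n) k) (esymm (Fin n) k (i + 1))) := by
  classical
  apply le_antisymm
  swap
  · refine adjoin_le_iff.mpr ?_
    rintro _ ⟨i, rfl⟩
    refine (mem_fixedField_iff _ _).mpr ?_
    rintro _ ⟨π, rfl⟩
    rw [permHom_algebraMap, rename_esymm]
  intro f hf
  have hf' : ∀ π, permHom n π f = f := fun π => (mem_fixedField_iff _ _).mp hf _ ⟨π, rfl⟩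
  obtain ⟨p, q, hq, rfl⟩ := IsFractionRing.div_surjective (MvPolynomial (Fin n) k) f
  have hq0 : q ≠ 0 := nonZeroDivisors.ne_zero hq
  let a : MvPolynomial (Fin n) k →+* InvFld.Fld (Fin n) k := algebraMap _ _
  have ha : Function.Injective a := IsFractionRing.injective _ _
  let Q : MvPolynomial (Fin n) k := ∏ π : Equiv.Perm (Fin n), rename π q
  let P : MvPolynomial (Fin n) k := p * ∏ π ∈ Finset.univ.erase (1 : Equiv.Perm (Fin n)), rename π q
  have hQ : Q.IsSymmetric := by
    intro τ
    rw [map_prod]
    exact Fintype.prod_equiv (Equiv.mulLeft τ) _ _ fun π => by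
      rw [rename_rename]; rfl
  have hQ0 : Q ≠ 0 := Finset.prod_ne_zero_iff.mpr fun π _ h =>
    hq0 ((map_eq_zero_iff _ (rename_injective _ π.injective)).mp h)
  have hsplit : Q = q * ∏ π ∈ Finset.univ.erase (1 : Equiv.Perm (Fin n)), rename π q := by
    simp only [Q]
    rw [← Finset.mul_prod_erase Finset.univ _ (Finset.mem_univ (1 : Equiv.Perm (Fin n)))]
    congr 1
    exact rename_id_apply q
  have hq' : a q ≠ 0 := (map_ne_zero_iff a ha).mpr hq0
  have hQ' : a Q ≠ 0 := (map_ne_zero_iff a ha).mpr hQ0
  have hPQ : a p / a q = a P / a Q := by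
    rw [div_eq_div_iff hq' hQ', ← map_mul, ← map_mul]
    congr 1
    simp only [P, hsplit]
    ring
  have hP : P.IsSymmetric := by
    intro τ
    have h1 := hf' τ
    change permHom n τ (a p / a q) = a p / a q at h1
    rw [hPQ, map_div₀, permHom_algebraMap, permHom_algebraMap, hQ τ,
      div_left_inj' hQ'] at h1
    exact ha h1
  have hmem : ∀ R : MvPolynomial (Fin n) k, R.IsSymmetric → a R ∈ adjoin k (Set.range fun i : Fin n =>
      algebraMap (MvPolynomial (Fin n) k) (InvFld.Fld (Fin n) k) (esymm (Fin n) k (i + 1))) := by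
    intro R hR
    obtain ⟨w, hw⟩ := esymmAlgHom_fin_surjective k (le_refl n) ⟨R, hR⟩
    have hw' : aeval (fun i : Fin n => esymm (Fin n) k (i + 1)) w = R := by
      rw [← esymmAlgHom_apply, hw]
    apply algebra_adjoin_le_adjoin
    rw [Algebra.adjoin_range_eq_range_aeval]
    refine ⟨w, ?_⟩
    rw [← hw']
    exact (aeval_algebraMap_apply (B := InvFld.Fld (Fin n) k)
      (fun i : Fin n => esymm (Fin n) k (i + 1)) w)
  show a p / a q ∈ _
  rw [hPQ]
  exact div_mem (hmem P hP) (hmem Q hQ)

theorem algebraicIndependent_esymm (n : ℕ) :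
    AlgebraicIndependent k (fun i : Fin n =>
      algebraMap (MvPolynomial (Fin n) k) (InvFld.Fld (Fin n) k) (esymm (Fin n) k (i + 1))) := by
  have h : AlgebraicIndependent k (fun i : Fin n => esymm (Fin n) k (i + 1)) := by
    intro a b hab
    refine esymmAlgHom_injective k (σ := Fin n) (n := n) (by simp) (Subtype.ext ?_)
    rw [esymmAlgHom_apply, esymmAlgHom_apply]
    exact hab
  exact h.map' (f := IsScalarTower.toAlgHom k (MvPolynomial (Fin n) k) (InvFld.Fld (Fin n) k))
    (IsFractionRing.injective _ _)

theorem exists_generators (n m : ℕ) :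
    ∃ t : Fin (m + n) → InvFld.Fld (Fin m) (fixedField (permHom (k := k) n).range),
      AlgebraicIndependent k t ∧ adjoin k (Set.range t) = ⊤ := by
  let F := fixedField (permHom (k := k) n).range
  let e₀ : Fin n → InvFld.Fld (Fin n) k := fun i =>
    algebraMap (MvPolynomial (Fin n) k) (InvFld.Fld (Fin n) k) (esymm (Fin n) k (i + 1))
  have he₀ : ∀ i, e₀ i ∈ F := fun i => by
    show e₀ i ∈ fixedField (permHom (k := k) n).range
    rw [fixedField_perm]
    exact subset_adjoin k _ ⟨i, rfl⟩
  let e : Fin n → F := fun i => ⟨e₀ i, he₀ i⟩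
  have hei : AlgebraicIndependent k e :=
    AlgebraicIndependent.of_comp F.val (algebraicIndependent_esymm n)
  have heg : adjoin k (Set.range e) = ⊤ := by
    refine IntermediateField.map_injective F.val ?_
    rw [adjoin_map, ← AlgHom.fieldRange_eq_map, fieldRange_val, ← Set.range_comp]
    exact (fixedField_perm n).symm
  let u : Fin m ⊕ Fin n → InvFld.Fld (Fin m) F :=
    Sum.elim InvFld.X (algebraMap F (InvFld.Fld (Fin m) F) ∘ e)
  have hu : AlgebraicIndependent k u :=
    AlgebraicIndependent.sumElim_comp hei (algebraicIndependent_X (k := F) (Fin m))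
  refine ⟨u ∘ finSumFinEquiv.symm, hu.comp _ finSumFinEquiv.symm.injective, ?_⟩
  rw [Function.Surjective.range_comp finSumFinEquiv.symm.surjective]
  refine top_le_iff.mp fun f _ => ?_
  have hC : ∀ c : F, algebraMap F (InvFld.Fld (Fin m) F) c ∈ adjoin k (Set.range u) := by
    intro c
    have h1 : (IsScalarTower.toAlgHom k F (InvFld.Fld (Fin m) F)) c ∈
        (adjoin k (Set.range e)).map (IsScalarTower.toAlgHom k F (InvFld.Fld (Fin m) F)) :=
      ⟨c, by rw [heg]; exact IntermediateField.mem_top, rfl⟩
    rw [adjoin_map] at h1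
    refine adjoin.mono k _ _ ?_ h1
    rintro _ ⟨_, ⟨i, rfl⟩, rfl⟩
    exact ⟨Sum.inr i, rfl⟩
  have hP : ∀ P : MvPolynomial (Fin m) F,
      algebraMap _ (InvFld.Fld (Fin m) F) P ∈ adjoin k (Set.range u) := by
    intro P
    induction P using MvPolynomial.induction_on with
    | C c =>
      rw [← MvPolynomial.algebraMap_eq, ← IsScalarTower.algebraMap_apply]
      exact hC c
    | add p q hp hq => rw [map_add]; exact add_mem hp hq
    | mul_X p i hp => rw [map_mul]; exact mul_mem hp (subset_adjoin k _ ⟨Sum.inl i, rfl⟩)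
  obtain ⟨p, q, _, rfl⟩ := IsFractionRing.div_surjective (MvPolynomial (Fin m) F) f
  exact div_mem (hP p) (hP q)

end Groth.Agent.Lib.NoName.Symm
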